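import Mathlib
import Groth.Agent.Lib.AicCover.Cover

/-!
# An affine cover with algebraically closed residue fields, integral over the base
-/

universe u

open CategoryTheory Limits AlgebraicGeometry Opposite TopologicalSpace

namespace GrothLib.AicAff18

open GrothLib

lemma hasMonicRoots_of_surjective {C D : Type*} [CommRing C] [CommRing D] (f : C →+* D)
    (hf : Function.Surjective f) (h : AicCover.HasMonicRoots C) : AicCover.HasMonicRoots D := by
  intro p hp hdeg
  rcases subsingleton_or_nontrivial D with hD | hD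
  · exact absurd (by rw [Subsingleton.elim p 0, Polynomial.natDegree_zero]) hdeg
  obtain ⟨q, hq, hdq, hqm⟩ := Polynomial.lifts_and_degree_eq_and_monic
    ((Polynomial.mem_lifts p).2 (Polynomial.map_surjective f hf p)) hp
  obtain ⟨c, hc⟩ := h q hqm (by rw [Polynomial.natDegree_eq_of_degree_eq hdq]; exact hdeg)
  exact ⟨f c, hq ▸ hc.map⟩

lemma isAlgClosed_residueField_Spec {C : CommRingCat.{u}} (hC : AicCover.HasMonicRoots C) (x : Spec C) :
    IsAlgClosed ((Spec C).residueField x) := by
  refine IsAlgClosed.of_exists_root _ fun p hp hirr => ?_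
  have h : AicCover.HasMonicRoots ((Spec C).residueField x) :=
    hasMonicRoots_of_surjective
      ((Spec.stalkIso C x).inv ≫ (Spec C).residue x).hom
      (((Spec C).residue_surjective x).comp (ConcreteCategory.bijective_of_isIso (Spec.stalkIso C x).inv).2)
      (AicCover.hasMonicRoots_of_isLocalization (L := Localization.AtPrime x.asIdeal) x.asIdeal hC)
  obtain ⟨y, hy⟩ := h p hp hirr.natDegree_pos.ne'
  exact ⟨y, hy⟩

lemma residueFieldMap_isIntegral {X Y : Scheme.{u}} (g : X ⟶ Y) [IsIntegralHom g] (z : X) :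
    (g.residueFieldMap z).hom.IsIntegral := by
  obtain ⟨V, hV, hzV, -⟩ := exists_isAffineOpen_mem_and_subset (x := g z) (U := ⊤) trivial
  have hW : IsAffineOpen (g ⁻¹ᵁ V) := hV.preimage g
  have hint : (g.app V).hom.IsIntegral := IsIntegralHom.isIntegral_app g V hV
  letI := (g.residueFieldMap z).hom.toAlgebra
  let e := (X.evaluation (g ⁻¹ᵁ V) z hzV).hom
  have he : ∀ a, IsIntegral (Y.residueField (g z)) (e a) := fun a => by
    obtain ⟨p, hp, hpa⟩ := hint a
    refine ⟨p.map (Y.evaluation V (g z) hzV).hom, hp.map _, ?_⟩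
    have := congrArg e hpa
    rw [Polynomial.hom_eval₂, map_zero] at this
    rw [Polynomial.eval₂_map]
    exact (congrArg (fun φ => p.eval₂ φ (e a))
      (congrArg CommRingCat.Hom.hom (Scheme.evaluation_naturality g z hzV))).trans this
  letI := X.presheaf.algebra_section_stalk (⟨z, hzV⟩ : (g ⁻¹ᵁ V : X.Opens))
  haveI : IsLocalization.AtPrime (X.presheaf.stalk z) (hW.primeIdealOf ⟨z, hzV⟩).asIdeal :=
    hW.isLocalization_stalk ⟨z, hzV⟩
  intro y
  obtain ⟨t, rfl⟩ := X.residue_surjective z y
  obtain ⟨⟨a, s⟩, hts⟩ := IsLocalization.surj (hW.primeIdealOf ⟨z, hzV⟩).asIdeal.primeCompl t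
  have hunit : IsUnit (e s.1) :=
    (IsLocalization.map_units (X.presheaf.stalk z) s).map (X.residue z).hom
  have h1 : X.residue z t * e s.1 = e a := by
    have := congrArg (X.residue z).hom hts
    rw [map_mul] at this
    exact this
  rw [show X.residue z t = e a * (e s.1)⁻¹ from (eq_mul_inv_iff_mul_eq₀ hunit.ne_zero).2 h1]
  exact (he a).mul (he s.1).inv

theorem exists_affine_cover (X : Scheme.{u}) [CompactSpace X] [QuasiSeparatedSpace X] :
    ∃ (X' : Scheme.{u}) (f : X' ⟶ X), IsAffine X' ∧ QuasiCompact f ∧ Surjective f ∧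
      ∀ x' : X', IsAlgClosed (X'.residueField x') ∧ (f.residueFieldMap x').hom.IsIntegral := by
  have hcov : ∀ y : AicCover.cover X, ∃ U : X.affineOpens,
      y ∈ (AicCover.chart X U).opensRange := fun y => by
    obtain ⟨U, hU, hyU, -⟩ := exists_isAffineOpen_mem_and_subset (x := AicCover.π X y) (U := ⊤) trivial
    refine ⟨⟨U, hU⟩, ?_⟩
    rw [← AicCover.π_preimage]
    exact hyU
  have : CompactSpace (AicCover.cover X) := QuasiCompact.compactSpace_of_compactSpace (AicCover.π X)
  choose U hU using hcov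
  obtain ⟨t, ht⟩ := isCompact_univ.elim_finite_subcover
    (fun y : AicCover.cover X => ((AicCover.chart X (U y)).opensRange : Set (AicCover.cover X)))
    (fun y => Opens.isOpen _) (fun y _ => Set.mem_iUnion.2 ⟨y, hU y⟩)
  let W : t → Scheme.{u} := fun y =>
    Spec (.of (integralClosure Γ(X, (U y.1).1) (AicCover.Prd X (U y.1).1)))
  let q : ∐ W ⟶ AicCover.cover X := Sigma.desc fun y => AicCover.chart X (U y.1)
  have hq : ∀ y, Sigma.ι W y ≫ q = AicCover.chart X (U y.1) := fun y => Sigma.ι_desc _ _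
  have hf : Surjective (q ≫ AicCover.π X) := by
    have : Surjective q := ⟨fun z => by
      obtain ⟨y, hy, hz⟩ := Set.mem_iUnion₂.1 (ht (Set.mem_univ z))
      obtain ⟨w, rfl⟩ := hz
      exact ⟨Sigma.ι W ⟨y, hy⟩ w, by rw [← Scheme.Hom.comp_apply, hq]⟩⟩
    infer_instance
  have haff : IsAffine (∐ W) := inferInstance
  refine ⟨∐ W, q ≫ AicCover.π X, haff, ?_, hf, fun x' => ?_⟩
  · exact quasiCompact_of_compactSpace _
  obtain ⟨y, w, rfl⟩ := (sigmaOpenCover W).exists_eq x'
  change (W y : Scheme) at w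
  show IsAlgClosed ((∐ W).residueField (Sigma.ι W y w)) ∧
    ((q ≫ AicCover.π X).residueFieldMap (Sigma.ι W y w)).hom.IsIntegral
  let ε := (asIso ((Sigma.ι W y).residueFieldMap w)).commRingCatIsoToRingEquiv
  refine ⟨@IsAlgClosed.of_ringEquiv _ _ _ _ ε.symm (isAlgClosed_residueField_Spec
    (AicCover.hasMonicRoots_integralClosure X (U y.1).1) w), ?_⟩
  have hint := residueFieldMap_isIntegral (AicCover.π X) (q (Sigma.ι W y w))
  have e1 : (q ≫ AicCover.π X).residueFieldMap (Sigma.ι W y w) =
      (AicCover.π X).residueFieldMap (q (Sigma.ι W y w)) ≫ q.residueFieldMap (Sigma.ι W y w) :=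
    Scheme.residueFieldMap_comp _ _ _
  have hiso : IsIso (q.residueFieldMap (Sigma.ι W y w)) := by
    have h2 : IsIso ((Sigma.ι W y ≫ q).residueFieldMap w) := by
      haveI : IsOpenImmersion (Sigma.ι W y ≫ q) := by rw [hq]; infer_instance
      infer_instance
    rw [Scheme.residueFieldMap_comp] at h2
    exact @IsIso.of_isIso_comp_right _ _ _ _ _ _ ((Sigma.ι W y).residueFieldMap w) inferInstance h2
  rw [e1]
  exact RingHom.IsIntegral.trans _ _ hint (RingHom.isIntegral_of_surjective _
    (ConcreteCategory.bijective_of_isIso (q.residueFieldMap (Sigma.ι W y w))).2)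

end GrothLib.AicAff18
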